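import Cfsg.Agent.H35.T1689.PTab

set_option autoImplicit false
set_option linter.all false
set_option Elab.async false

namespace Cfsg.Agent.H35

theorem t1689_pchk_90 : allR t1689_pf 31671 8 (90 * 2 ^ 8) = true := by decide +kernel
theorem t1689_pchk_91 : allR t1689_pf 31671 8 (91 * 2 ^ 8) = true := by decide +kernel
theorem t1689_pchk_92 : allR t1689_pf 31671 8 (92 * 2 ^ 8) = true := by decide +kernel
theorem t1689_pchk_93 : allR t1689_pf 31671 8 (93 * 2 ^ 8) = true := by decide +kernel
theorem t1689_pchk_94 : allR t1689_pf 31671 8 (94 * 2 ^ 8) = true := by decide +kernel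
theorem t1689_pchk_95 : allR t1689_pf 31671 8 (95 * 2 ^ 8) = true := by decide +kernel
theorem t1689_pchk_96 : allR t1689_pf 31671 8 (96 * 2 ^ 8) = true := by decide +kernel
theorem t1689_pchk_97 : allR t1689_pf 31671 8 (97 * 2 ^ 8) = true := by decide +kernel
theorem t1689_pchk_98 : allR t1689_pf 31671 8 (98 * 2 ^ 8) = true := by decide +kernel
theorem t1689_pchk_99 : allR t1689_pf 31671 8 (99 * 2 ^ 8) = true := by decide +kernel
theorem t1689_pchk_100 : allR t1689_pf 31671 8 (100 * 2 ^ 8) = true := by decide +kernel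
theorem t1689_pchk_101 : allR t1689_pf 31671 8 (101 * 2 ^ 8) = true := by decide +kernel
theorem t1689_pchk_102 : allR t1689_pf 31671 8 (102 * 2 ^ 8) = true := by decide +kernel
theorem t1689_pchk_103 : allR t1689_pf 31671 8 (103 * 2 ^ 8) = true := by decide +kernel
theorem t1689_pchk_104 : allR t1689_pf 31671 8 (104 * 2 ^ 8) = true := by decide +kernel
theorem t1689_pchk_105 : allR t1689_pf 31671 8 (105 * 2 ^ 8) = true := by decide +kernel
theorem t1689_pchk_106 : allR t1689_pf 31671 8 (106 * 2 ^ 8) = true := by decide +kernel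
theorem t1689_pchk_107 : allR t1689_pf 31671 8 (107 * 2 ^ 8) = true := by decide +kernel
theorem t1689_pchk_108 : allR t1689_pf 31671 8 (108 * 2 ^ 8) = true := by decide +kernel
theorem t1689_pchk_109 : allR t1689_pf 31671 8 (109 * 2 ^ 8) = true := by decide +kernel
theorem t1689_pchk_110 : allR t1689_pf 31671 8 (110 * 2 ^ 8) = true := by decide +kernel
theorem t1689_pchk_111 : allR t1689_pf 31671 8 (111 * 2 ^ 8) = true := by decide +kernel
theorem t1689_pchk_112 : allR t1689_pf 31671 8 (112 * 2 ^ 8) = true := by decide +kernel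
theorem t1689_pchk_113 : allR t1689_pf 31671 8 (113 * 2 ^ 8) = true := by decide +kernel
theorem t1689_pchk_114 : allR t1689_pf 31671 8 (114 * 2 ^ 8) = true := by decide +kernel
theorem t1689_pchk_115 : allR t1689_pf 31671 8 (115 * 2 ^ 8) = true := by decide +kernel
theorem t1689_pchk_116 : allR t1689_pf 31671 8 (116 * 2 ^ 8) = true := by decide +kernel
theorem t1689_pchk_117 : allR t1689_pf 31671 8 (117 * 2 ^ 8) = true := by decide +kernel
theorem t1689_pchk_118 : allR t1689_pf 31671 8 (118 * 2 ^ 8) = true := by decide +kernel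
theorem t1689_pchk_119 : allR t1689_pf 31671 8 (119 * 2 ^ 8) = true := by decide +kernel

end Cfsg.Agent.H35
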