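import Cfsg.Agent.H35.T1689.PTab

set_option autoImplicit false
set_option linter.all false
set_option Elab.async false

namespace Cfsg.Agent.H35

theorem t1689_pchk_120 : allR t1689_pf 31671 8 (120 * 2 ^ 8) = true := by decide +kernel
theorem t1689_pchk_121 : allR t1689_pf 31671 8 (121 * 2 ^ 8) = true := by decide +kernel
theorem t1689_pchk_122 : allR t1689_pf 31671 8 (122 * 2 ^ 8) = true := by decide +kernel
theorem t1689_pchk_123 : allR t1689_pf 31671 8 (123 * 2 ^ 8) = true := by decide +kernel

end Cfsg.Agent.H35
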