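import Cfsg.Agent.H35.T1689.PChk0
import Cfsg.Agent.H35.T1689.PChk1
import Cfsg.Agent.H35.T1689.PChk2
import Cfsg.Agent.H35.T1689.PChk3
import Cfsg.Agent.H35.T1689.PChk4

set_option autoImplicit false
set_option linter.all false

namespace Cfsg.Agent.H35

theorem t1689_pall : ∀ p, p < 31671 → t1689_pf p = true := by
  apply allR_blocks t1689_pf 31671 8 124 _ (by decide)
  intro k hk
  interval_cases k
  · exact t1689_pchk_0
  · exact t1689_pchk_1
  · exact t1689_pchk_2
  · exact t1689_pchk_3
  · exact t1689_pchk_4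
  · exact t1689_pchk_5
  · exact t1689_pchk_6
  · exact t1689_pchk_7
  · exact t1689_pchk_8
  · exact t1689_pchk_9
  · exact t1689_pchk_10
  · exact t1689_pchk_11
  · exact t1689_pchk_12
  · exact t1689_pchk_13
  · exact t1689_pchk_14
  · exact t1689_pchk_15
  · exact t1689_pchk_16
  · exact t1689_pchk_17
  · exact t1689_pchk_18
  · exact t1689_pchk_19
  · exact t1689_pchk_20
  · exact t1689_pchk_21
  · exact t1689_pchk_22
  · exact t1689_pchk_23
  · exact t1689_pchk_24
  · exact t1689_pchk_25
  · exact t1689_pchk_26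
  · exact t1689_pchk_27
  · exact t1689_pchk_28
  · exact t1689_pchk_29
  · exact t1689_pchk_30
  · exact t1689_pchk_31
  · exact t1689_pchk_32
  · exact t1689_pchk_33
  · exact t1689_pchk_34
  · exact t1689_pchk_35
  · exact t1689_pchk_36
  · exact t1689_pchk_37
  · exact t1689_pchk_38
  · exact t1689_pchk_39
  · exact t1689_pchk_40
  · exact t1689_pchk_41
  · exact t1689_pchk_42
  · exact t1689_pchk_43
  · exact t1689_pchk_44
  · exact t1689_pchk_45
  · exact t1689_pchk_46
  · exact t1689_pchk_47
  · exact t1689_pchk_48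
  · exact t1689_pchk_49
  · exact t1689_pchk_50
  · exact t1689_pchk_51
  · exact t1689_pchk_52
  · exact t1689_pchk_53
  · exact t1689_pchk_54
  · exact t1689_pchk_55
  · exact t1689_pchk_56
  · exact t1689_pchk_57
  · exact t1689_pchk_58
  · exact t1689_pchk_59
  · exact t1689_pchk_60
  · exact t1689_pchk_61
  · exact t1689_pchk_62
  · exact t1689_pchk_63
  · exact t1689_pchk_64
  · exact t1689_pchk_65
  · exact t1689_pchk_66
  · exact t1689_pchk_67
  · exact t1689_pchk_68
  · exact t1689_pchk_69
  · exact t1689_pchk_70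
  · exact t1689_pchk_71
  · exact t1689_pchk_72
  · exact t1689_pchk_73
  · exact t1689_pchk_74
  · exact t1689_pchk_75
  · exact t1689_pchk_76
  · exact t1689_pchk_77
  · exact t1689_pchk_78
  · exact t1689_pchk_79
  · exact t1689_pchk_80
  · exact t1689_pchk_81
  · exact t1689_pchk_82
  · exact t1689_pchk_83
  · exact t1689_pchk_84
  · exact t1689_pchk_85
  · exact t1689_pchk_86
  · exact t1689_pchk_87
  · exact t1689_pchk_88
  · exact t1689_pchk_89
  · exact t1689_pchk_90
  · exact t1689_pchk_91
  · exact t1689_pchk_92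
  · exact t1689_pchk_93
  · exact t1689_pchk_94
  · exact t1689_pchk_95
  · exact t1689_pchk_96
  · exact t1689_pchk_97
  · exact t1689_pchk_98
  · exact t1689_pchk_99
  · exact t1689_pchk_100
  · exact t1689_pchk_101
  · exact t1689_pchk_102
  · exact t1689_pchk_103
  · exact t1689_pchk_104
  · exact t1689_pchk_105
  · exact t1689_pchk_106
  · exact t1689_pchk_107
  · exact t1689_pchk_108
  · exact t1689_pchk_109
  · exact t1689_pchk_110
  · exact t1689_pchk_111
  · exact t1689_pchk_112
  · exact t1689_pchk_113
  · exact t1689_pchk_114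
  · exact t1689_pchk_115
  · exact t1689_pchk_116
  · exact t1689_pchk_117
  · exact t1689_pchk_118
  · exact t1689_pchk_119
  · exact t1689_pchk_120
  · exact t1689_pchk_121
  · exact t1689_pchk_122
  · exact t1689_pchk_123

theorem t1689_psub : t1689_pd.subOK t1689_sw = true := by decide +kernel

end Cfsg.Agent.H35
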