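import Cfsg.Agent.H35.T1689.RTab

set_option autoImplicit false
set_option linter.all false
set_option Elab.async false

namespace Cfsg.Agent.H35

theorem t1689_rchk_140 : allR t1689_rf 41693 8 (140 * 2 ^ 8) = true := by decide +kernel
theorem t1689_rchk_141 : allR t1689_rf 41693 8 (141 * 2 ^ 8) = true := by decide +kernel
theorem t1689_rchk_142 : allR t1689_rf 41693 8 (142 * 2 ^ 8) = true := by decide +kernel
theorem t1689_rchk_143 : allR t1689_rf 41693 8 (143 * 2 ^ 8) = true := by decide +kernel
theorem t1689_rchk_144 : allR t1689_rf 41693 8 (144 * 2 ^ 8) = true := by decide +kernel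
theorem t1689_rchk_145 : allR t1689_rf 41693 8 (145 * 2 ^ 8) = true := by decide +kernel
theorem t1689_rchk_146 : allR t1689_rf 41693 8 (146 * 2 ^ 8) = true := by decide +kernel
theorem t1689_rchk_147 : allR t1689_rf 41693 8 (147 * 2 ^ 8) = true := by decide +kernel
theorem t1689_rchk_148 : allR t1689_rf 41693 8 (148 * 2 ^ 8) = true := by decide +kernel
theorem t1689_rchk_149 : allR t1689_rf 41693 8 (149 * 2 ^ 8) = true := by decide +kernel
theorem t1689_rchk_150 : allR t1689_rf 41693 8 (150 * 2 ^ 8) = true := by decide +kernel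
theorem t1689_rchk_151 : allR t1689_rf 41693 8 (151 * 2 ^ 8) = true := by decide +kernel
theorem t1689_rchk_152 : allR t1689_rf 41693 8 (152 * 2 ^ 8) = true := by decide +kernel
theorem t1689_rchk_153 : allR t1689_rf 41693 8 (153 * 2 ^ 8) = true := by decide +kernel
theorem t1689_rchk_154 : allR t1689_rf 41693 8 (154 * 2 ^ 8) = true := by decide +kernel
theorem t1689_rchk_155 : allR t1689_rf 41693 8 (155 * 2 ^ 8) = true := by decide +kernel
theorem t1689_rchk_156 : allR t1689_rf 41693 8 (156 * 2 ^ 8) = true := by decide +kernel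
theorem t1689_rchk_157 : allR t1689_rf 41693 8 (157 * 2 ^ 8) = true := by decide +kernel
theorem t1689_rchk_158 : allR t1689_rf 41693 8 (158 * 2 ^ 8) = true := by decide +kernel
theorem t1689_rchk_159 : allR t1689_rf 41693 8 (159 * 2 ^ 8) = true := by decide +kernel

end Cfsg.Agent.H35
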