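import Cfsg.Agent.H35.T1689.RTab

set_option autoImplicit false
set_option linter.all false
set_option Elab.async false

namespace Cfsg.Agent.H35

theorem t1689_rchk_160 : allR t1689_rf 41693 8 (160 * 2 ^ 8) = true := by decide +kernel
theorem t1689_rchk_161 : allR t1689_rf 41693 8 (161 * 2 ^ 8) = true := by decide +kernel
theorem t1689_rchk_162 : allR t1689_rf 41693 8 (162 * 2 ^ 8) = true := by decide +kernel

end Cfsg.Agent.H35
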