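import Cfsg.Agent.H35.T1689.RChk0
import Cfsg.Agent.H35.T1689.RChk1
import Cfsg.Agent.H35.T1689.RChk2
import Cfsg.Agent.H35.T1689.RChk3
import Cfsg.Agent.H35.T1689.RChk4
import Cfsg.Agent.H35.T1689.RChk5
import Cfsg.Agent.H35.T1689.RChk6
import Cfsg.Agent.H35.T1689.RChk7
import Cfsg.Agent.H35.T1689.RChk8

set_option autoImplicit false
set_option linter.all false

namespace Cfsg.Agent.H35

theorem t1689_rall : ∀ p, p < 41693 → t1689_rf p = true := by
  apply allR_blocks t1689_rf 41693 8 163 _ (by decide)
  intro k hk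
  interval_cases k
  · exact t1689_rchk_0
  · exact t1689_rchk_1
  · exact t1689_rchk_2
  · exact t1689_rchk_3
  · exact t1689_rchk_4
  · exact t1689_rchk_5
  · exact t1689_rchk_6
  · exact t1689_rchk_7
  · exact t1689_rchk_8
  · exact t1689_rchk_9
  · exact t1689_rchk_10
  · exact t1689_rchk_11
  · exact t1689_rchk_12
  · exact t1689_rchk_13
  · exact t1689_rchk_14
  · exact t1689_rchk_15
  · exact t1689_rchk_16
  · exact t1689_rchk_17
  · exact t1689_rchk_18
  · exact t1689_rchk_19
  · exact t1689_rchk_20
  · exact t1689_rchk_21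
  · exact t1689_rchk_22
  · exact t1689_rchk_23
  · exact t1689_rchk_24
  · exact t1689_rchk_25
  · exact t1689_rchk_26
  · exact t1689_rchk_27
  · exact t1689_rchk_28
  · exact t1689_rchk_29
  · exact t1689_rchk_30
  · exact t1689_rchk_31
  · exact t1689_rchk_32
  · exact t1689_rchk_33
  · exact t1689_rchk_34
  · exact t1689_rchk_35
  · exact t1689_rchk_36
  · exact t1689_rchk_37
  · exact t1689_rchk_38
  · exact t1689_rchk_39
  · exact t1689_rchk_40
  · exact t1689_rchk_41
  · exact t1689_rchk_42
  · exact t1689_rchk_43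
  · exact t1689_rchk_44
  · exact t1689_rchk_45
  · exact t1689_rchk_46
  · exact t1689_rchk_47
  · exact t1689_rchk_48
  · exact t1689_rchk_49
  · exact t1689_rchk_50
  · exact t1689_rchk_51
  · exact t1689_rchk_52
  · exact t1689_rchk_53
  · exact t1689_rchk_54
  · exact t1689_rchk_55
  · exact t1689_rchk_56
  · exact t1689_rchk_57
  · exact t1689_rchk_58
  · exact t1689_rchk_59
  · exact t1689_rchk_60
  · exact t1689_rchk_61
  · exact t1689_rchk_62
  · exact t1689_rchk_63
  · exact t1689_rchk_64
  · exact t1689_rchk_65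
  · exact t1689_rchk_66
  · exact t1689_rchk_67
  · exact t1689_rchk_68
  · exact t1689_rchk_69
  · exact t1689_rchk_70
  · exact t1689_rchk_71
  · exact t1689_rchk_72
  · exact t1689_rchk_73
  · exact t1689_rchk_74
  · exact t1689_rchk_75
  · exact t1689_rchk_76
  · exact t1689_rchk_77
  · exact t1689_rchk_78
  · exact t1689_rchk_79
  · exact t1689_rchk_80
  · exact t1689_rchk_81
  · exact t1689_rchk_82
  · exact t1689_rchk_83
  · exact t1689_rchk_84
  · exact t1689_rchk_85
  · exact t1689_rchk_86
  · exact t1689_rchk_87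
  · exact t1689_rchk_88
  · exact t1689_rchk_89
  · exact t1689_rchk_90
  · exact t1689_rchk_91
  · exact t1689_rchk_92
  · exact t1689_rchk_93
  · exact t1689_rchk_94
  · exact t1689_rchk_95
  · exact t1689_rchk_96
  · exact t1689_rchk_97
  · exact t1689_rchk_98
  · exact t1689_rchk_99
  · exact t1689_rchk_100
  · exact t1689_rchk_101
  · exact t1689_rchk_102
  · exact t1689_rchk_103
  · exact t1689_rchk_104
  · exact t1689_rchk_105
  · exact t1689_rchk_106
  · exact t1689_rchk_107
  · exact t1689_rchk_108
  · exact t1689_rchk_109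
  · exact t1689_rchk_110
  · exact t1689_rchk_111
  · exact t1689_rchk_112
  · exact t1689_rchk_113
  · exact t1689_rchk_114
  · exact t1689_rchk_115
  · exact t1689_rchk_116
  · exact t1689_rchk_117
  · exact t1689_rchk_118
  · exact t1689_rchk_119
  · exact t1689_rchk_120
  · exact t1689_rchk_121
  · exact t1689_rchk_122
  · exact t1689_rchk_123
  · exact t1689_rchk_124
  · exact t1689_rchk_125
  · exact t1689_rchk_126
  · exact t1689_rchk_127
  · exact t1689_rchk_128
  · exact t1689_rchk_129
  · exact t1689_rchk_130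
  · exact t1689_rchk_131
  · exact t1689_rchk_132
  · exact t1689_rchk_133
  · exact t1689_rchk_134
  · exact t1689_rchk_135
  · exact t1689_rchk_136
  · exact t1689_rchk_137
  · exact t1689_rchk_138
  · exact t1689_rchk_139
  · exact t1689_rchk_140
  · exact t1689_rchk_141
  · exact t1689_rchk_142
  · exact t1689_rchk_143
  · exact t1689_rchk_144
  · exact t1689_rchk_145
  · exact t1689_rchk_146
  · exact t1689_rchk_147
  · exact t1689_rchk_148
  · exact t1689_rchk_149
  · exact t1689_rchk_150
  · exact t1689_rchk_151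
  · exact t1689_rchk_152
  · exact t1689_rchk_153
  · exact t1689_rchk_154
  · exact t1689_rchk_155
  · exact t1689_rchk_156
  · exact t1689_rchk_157
  · exact t1689_rchk_158
  · exact t1689_rchk_159
  · exact t1689_rchk_160
  · exact t1689_rchk_161
  · exact t1689_rchk_162

theorem t1689_circ_ok : circChk (fullW fi23_rws fi23_prels) t1689_circT 0 t1689_ccert = true := by decide +kernel
theorem t1689_hc_ok : allR (fun c => hcChk t1689_rsw t1689_hc1T t1689_hc2T c) 9 4 0 = true := by decide +kernel
theorem t1689_h0 : RData.aord (t1689_rd.ent 0 1) = 0 := by decide +kernel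

end Cfsg.Agent.H35
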