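import Cfsg.Agent.H35.T1689.RTab0
import Cfsg.Agent.H35.T1689.RTab1

set_option autoImplicit false
set_option linter.all false

namespace Cfsg.Agent.H35

noncomputable def t1689_rrowT : ℕ → ℕ := (nd 20736 (nd 10240 (nd 5120 (nd 2560 (nd 1280 (nd 512 (nd 256 t1689_rrowT_c0 t1689_rrowT_c1) (nd 768 t1689_rrowT_c2 (nd 1024 t1689_rrowT_c3 t1689_rrowT_c4))) (nd 1792 (nd 1536 t1689_rrowT_c5 t1689_rrowT_c6) (nd 2048 t1689_rrowT_c7 (nd 2304 t1689_rrowT_c8 t1689_rrowT_c9)))) (nd 3840 (nd 3072 (nd 2816 t1689_rrowT_c10 t1689_rrowT_c11) (nd 3328 t1689_rrowT_c12 (nd 3584 t1689_rrowT_c13 t1689_rrowT_c14))) (nd 4352 (nd 4096 t1689_rrowT_c15 t1689_rrowT_c16) (nd 4608 t1689_rrowT_c17 (nd 4864 t1689_rrowT_c18 t1689_rrowT_c19))))) (nd 7680 (nd 6400 (nd 5632 (nd 5376 t1689_rrowT_c20 t1689_rrowT_c21) (nd 5888 t1689_rrowT_c22 (nd 6144 t1689_rrowT_c23 t1689_rrowT_c24)))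 (nd 6912 (nd 6656 t1689_rrowT_c25 t1689_rrowT_c26) (nd 7168 t1689_rrowT_c27 (nd 7424 t1689_rrowT_c28 t1689_rrowT_c29)))) (nd 8960 (nd 8192 (nd 7936 t1689_rrowT_c30 t1689_rrowT_c31) (nd 8448 t1689_rrowT_c32 (nd 8704 t1689_rrowT_c33 t1689_rrowT_c34))) (nd 9472 (nd 9216 t1689_rrowT_c35 t1689_rrowT_c36) (nd 9728 t1689_rrowT_c37 (nd 9984 t1689_rrowT_c38 t1689_rrowT_c39)))))) (nd 15360 (nd 12800 (nd 11520 (nd 10752 (nd 10496 t1689_rrowT_c40 t1689_rrowT_c41) (nd 11008 t1689_rrowT_c42 (nd 11264 t1689_rrowT_c43 t1689_rrowT_c44))) (nd 12032 (nd 11776 t1689_rrowT_c45 t1689_rrowT_c46) (nd 12288 t1689_rrowT_c47 (nd 12544 t1689_rrowT_c48 t1689_rrowT_c49)))) (nd 14080 (nd 13312 (nd 13056 t1689_rrowT_c50 t1689_rrowT_c51) (nd 13568 t1689_rrowT_c52 (nd 13824 t1689_rrowT_c53 t1689_rrowT_c54))) (nd 14592 (nd 14336 t1689_rrowT_c55 t1689_rrowT_c56) (nd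 14848 t1689_rrowT_c57 (nd 15104 t1689_rrowT_c58 t1689_rrowT_c59))))) (nd 17920 (nd 16640 (nd 15872 (nd 15616 t1689_rrowT_c60 t1689_rrowT_c61) (nd 16128 t1689_rrowT_c62 (nd 16384 t1689_rrowT_c63 t1689_rrowT_c64))) (nd 17152 (nd 16896 t1689_rrowT_c65 t1689_rrowT_c66) (nd 17408 t1689_rrowT_c67 (nd 17664 t1689_rrowT_c68 t1689_rrowT_c69)))) (nd 19200 (nd 18432 (nd 18176 t1689_rrowT_c70 t1689_rrowT_c71) (nd 18688 t1689_rrowT_c72 (nd 18944 t1689_rrowT_c73 t1689_rrowT_c74))) (nd 19968 (nd 19456 t1689_rrowT_c75 (nd 19712 t1689_rrowT_c76 t1689_rrowT_c77)) (nd 20224 t1689_rrowT_c78 (nd 20480 t1689_rrowT_c79 t1689_rrowT_c80))))))) (nd 31232 (nd 25856 (nd 23296 (nd 22016 (nd 21248 (nd 20992 t1689_rrowT_c81 t1689_rrowT_c82) (nd 21504 t1689_rrowT_c83 (nd 21760 t1689_rrowT_c84 t1689_rrowT_c85))) (nd 22528 (nd 22272 t1689_rrowT_c86 t1689_rrowT_c87)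 (nd 22784 t1689_rrowT_c88 (nd 23040 t1689_rrowT_c89 t1689_rrowT_c90)))) (nd 24576 (nd 23808 (nd 23552 t1689_rrowT_c91 t1689_rrowT_c92) (nd 24064 t1689_rrowT_c93 (nd 24320 t1689_rrowT_c94 t1689_rrowT_c95))) (nd 25088 (nd 24832 t1689_rrowT_c96 t1689_rrowT_c97) (nd 25344 t1689_rrowT_c98 (nd 25600 t1689_rrowT_c99 t1689_rrowT_c100))))) (nd 28416 (nd 27136 (nd 26368 (nd 26112 t1689_rrowT_c101 t1689_rrowT_c102) (nd 26624 t1689_rrowT_c103 (nd 26880 t1689_rrowT_c104 t1689_rrowT_c105))) (nd 27648 (nd 27392 t1689_rrowT_c106 t1689_rrowT_c107) (nd 27904 t1689_rrowT_c108 (nd 28160 t1689_rrowT_c109 t1689_rrowT_c110)))) (nd 29696 (nd 28928 (nd 28672 t1689_rrowT_c111 t1689_rrowT_c112) (nd 29184 t1689_rrowT_c113 (nd 29440 t1689_rrowT_c114 t1689_rrowT_c115))) (nd 30464 (nd 29952 t1689_rrowT_c116 (nd 30208 t1689_rrowT_c117 t1689_rrowT_c118)) (nd 30720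 t1689_rrowT_c119 (nd 30976 t1689_rrowT_c120 t1689_rrowT_c121)))))) (nd 36352 (nd 33792 (nd 32512 (nd 31744 (nd 31488 t1689_rrowT_c122 t1689_rrowT_c123) (nd 32000 t1689_rrowT_c124 (nd 32256 t1689_rrowT_c125 t1689_rrowT_c126))) (nd 33024 (nd 32768 t1689_rrowT_c127 t1689_rrowT_c128) (nd 33280 t1689_rrowT_c129 (nd 33536 t1689_rrowT_c130 t1689_rrowT_c131)))) (nd 35072 (nd 34304 (nd 34048 t1689_rrowT_c132 t1689_rrowT_c133) (nd 34560 t1689_rrowT_c134 (nd 34816 t1689_rrowT_c135 t1689_rrowT_c136))) (nd 35584 (nd 35328 t1689_rrowT_c137 t1689_rrowT_c138) (nd 35840 t1689_rrowT_c139 (nd 36096 t1689_rrowT_c140 t1689_rrowT_c141))))) (nd 38912 (nd 37632 (nd 36864 (nd 36608 t1689_rrowT_c142 t1689_rrowT_c143) (nd 37120 t1689_rrowT_c144 (nd 37376 t1689_rrowT_c145 t1689_rrowT_c146))) (nd 38144 (nd 37888 t1689_rrowT_c147 t1689_rrowT_c148) (nd 38400 t1689_rrowT_c149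 (nd 38656 t1689_rrowT_c150 t1689_rrowT_c151)))) (nd 40192 (nd 39424 (nd 39168 t1689_rrowT_c152 t1689_rrowT_c153) (nd 39680 t1689_rrowT_c154 (nd 39936 t1689_rrowT_c155 t1689_rrowT_c156))) (nd 40960 (nd 40448 t1689_rrowT_c157 (nd 40704 t1689_rrowT_c158 t1689_rrowT_c159)) (nd 41216 t1689_rrowT_c160 (nd 41472 t1689_rrowT_c161 t1689_rrowT_c162))))))))

noncomputable def t1689_circT_c0 : ℕ → List Cfsg.Spor.Fi23.Gen := (nd 32 (nd 16 (nd 8 (nd 4 (nd 2 (nd 1 (lf [.a, .j, .a, .j]) (lf [.b, .j, .b, .j])) (nd 3 (lf [.c, .j, .c, .j]) (lf [.d, .j, .d, .j]))) (nd 6 (nd 5 (lf [.e, .j, .e, .j]) (lf [.f, .j, .f, .j])) (nd 7 (lf [.h, .j, .h, .j]) (lf [.i, .j, .i, .j])))) (nd 12 (nd 10 (nd 9 (lf [.a, .g, .a, .g]) (lf [.b, .g, .b, .g])) (nd 11 (lf [.c, .g, .c, .g]) (lf [.d, .g, .d, .g]))) (nd 14 (nd 13 (lf [.e, .g, .e, .g]) (lf [.j, .g, .j, .g, .j, .g]))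 (nd 15 (lf [.h, .g, .h, .g]) (lf [.i, .g, .i, .g]))))) (nd 24 (nd 20 (nd 18 (nd 17 (lf [.a, .f, .a, .f]) (lf [.b, .f, .b, .f])) (nd 19 (lf [.c, .f, .c, .f]) (lf [.d, .f, .d, .f]))) (nd 22 (nd 21 (lf [.g, .f, .g, .f, .g, .f]) (lf [.j, .f, .j, .f])) (nd 23 (lf [.h, .f, .h, .f]) (lf [.i, .f, .i, .f])))) (nd 28 (nd 26 (nd 25 (lf [.a, .e, .a, .e]) (lf [.b, .e, .b, .e])) (nd 27 (lf [.c, .e, .c, .e]) (lf [.f, .e, .f, .e, .f, .e]))) (nd 30 (nd 29 (lf [.g, .e, .g, .e]) (lf [.j, .e, .j, .e])) (nd 31 (lf [.h, .e, .h, .e]) (lf [.i, .e, .i, .e])))))) (nd 48 (nd 40 (nd 36 (nd 34 (nd 33 (lf [.a, .d, .a, .d]) (lf [.b, .d, .b, .d])) (nd 35 (lf [.e, .d, .e, .d, .e, .d]) (lf [.f, .d, .f, .d]))) (nd 38 (nd 37 (lf [.g, .d, .g, .d]) (lf [.j, .d, .j, .d])) (nd 39 (lf [.i, .d, .i, .d]) (lf [.a, .c, .a, .c])))) (nd 44 (nd 42 (nd 41 (lf [.d, .c, .d, .c, .d,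 .c]) (lf [.e, .c, .e, .c])) (nd 43 (lf [.f, .c, .f, .c]) (lf [.g, .c, .g, .c]))) (nd 46 (nd 45 (lf [.j, .c, .j, .c]) (lf [.i, .c, .i, .c])) (nd 47 (lf [.a, .h, .a, .h]) (lf [.b, .h, .b, .h]))))) (nd 56 (nd 52 (nd 50 (nd 49 (lf [.d, .h, .d, .h, .d, .h]) (lf [.e, .h, .e, .h])) (nd 51 (lf [.f, .h, .f, .h]) (lf [.g, .h, .g, .h]))) (nd 54 (nd 53 (lf [.j, .h, .j, .h]) (lf [.c, .b, .c, .b, .c, .b])) (nd 55 (lf [.d, .b, .d, .b]) (lf [.e, .b, .e, .b])))) (nd 60 (nd 58 (nd 57 (lf [.f, .b, .f, .b]) (lf [.g, .b, .g, .b])) (nd 59 (lf [.j, .b, .j, .b]) (lf [.i, .b, .i, .b]))) (nd 62 (nd 61 (lf [.c, .h, .c, .h]) (lf [.c, .c])) (nd 63 (lf [.a, .i, .a, .i]) (lf [.b, .i, .b, .i])))))))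
noncomputable def t1689_circT_c1 : ℕ → List Cfsg.Spor.Fi23.Gen := (nd 93 (nd 78 (nd 71 (nd 67 (nd 65 (lf [.d, .i, .d, .i]) (nd 66 (lf [.e, .i, .e, .i]) (lf [.f, .i, .f, .i]))) (nd 69 (nd 68 (lf [.g, .i, .g, .i]) (lf [.j, .i, .j, .i])) (nd 70 (lf [.h, .i, .h, .i, .h, .i]) (lf [.b, .a, .b, .a, .b, .a])))) (nd 74 (nd 72 (lf [.c, .a, .c, .a]) (nd 73 (lf [.d, .a, .d, .a]) (lf [.e, .a, .e, .a]))) (nd 76 (nd 75 (lf [.f, .a, .f, .a]) (lf [.g, .a, .g, .a])) (nd 77 (lf [.j, .a, .j, .a]) (lf [.i, .a, .i, .a]))))) (nd 85 (nd 81 (nd 79 (lf [.b, .b]) (nd 80 (lf [.c, .d, .c, .d, .c, .d]) (lf [.h, .d, .h, .d, .h, .d]))) (nd 83 (nd 82 (lf [.c, .i, .c, .i]) (lf [.a, .a])) (nd 84 (lf [.d, .e, .d, .e, .d, .e]) (lf [.d, .d])))) (nd 89 (nd 87 (nd 86 (lf [.b, .c, .b, .c, .b, .c]) (lf [.h, .c, .h, .c])) (nd 88 (lf [.e, .f, .e, .f, .e, .f]) (lf [.e, .e])))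 (nd 91 (nd 90 (lf [.i, .h, .i, .h, .i, .h]) (lf [.f, .g, .f, .g, .f, .g])) (nd 92 (lf [.f, .f]) (lf [.a, .b, .a, .b, .a, .b])))))) (nd 108 (nd 100 (nd 96 (nd 94 (lf [.h, .b, .h, .b]) (nd 95 (lf [.g, .j, .g, .j, .g, .j]) (lf [.g, .g]))) (nd 98 (nd 97 (lf [.j, .j]) (lf [.i, .i])) (nd 99 (lf [.h, .h]) (lf [.h, .a, .h, .a])))) (nd 104 (nd 102 (nd 101 (lf [.h, .a, .b, .c, .d, .e, .f, .h, .a, .b, .c, .d, .e, .f, .h, .a, .b, .c, .d, .e, .f, .h, .a, .b, .c, .d, .e, .f, .h, .a, .b, .c, .d, .e, .f, .h, .a, .b, .c, .d, .e, .f, .h, .a, .b, .c, .d, .e, .f, .h, .a, .b, .c, .d, .e, .f, .h, .a, .b, .c, .d, .e, .f]) (lf [.e, .d, .b, .c, .d, .i, .h, .d, .f, .e, .d, .b, .c, .d, .i, .h, .d, .f, .e, .d, .b, .c, .d, .i, .h, .d, .f, .e, .d, .b, .c, .d, .i, .h, .d, .f, .e, .d, .b, .c, .d, .i, .h, .d, .f, .e, .d, .b, .c, .d, .i, .h, .d, .f, .e, .d, .b, .c,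 .d, .i, .h, .d, .f, .e, .d, .b, .c, .d, .i, .h, .d, .f, .e, .d, .b, .c, .d, .i, .h, .d, .f, .e, .d, .b, .c, .d, .i, .h, .d, .f])) (nd 103 (lf [.b, .d, .e, .f, .d, .h, .i, .d, .c, .b, .d, .e, .f, .d, .h, .i, .d, .c, .b, .d, .e, .f, .d, .h, .i, .d, .c, .b, .d, .e, .f, .d, .h, .i, .d, .c, .b, .d, .e, .f, .d, .h, .i, .d, .c, .b, .d, .e, .f, .d, .h, .i, .d, .c, .b, .d, .e, .f, .d, .h, .i, .d, .c, .b, .d, .e, .f, .d, .h, .i, .d, .c, .b, .d, .e, .f, .d, .h, .i, .d, .c, .b, .d, .e, .f, .d, .h, .i, .d, .c]) (lf [.d, .e, .f, .d, .h, .i, .d, .c, .b, .d, .e, .f, .d, .h, .i, .d, .c, .b, .d, .e, .f, .d, .h, .i, .d, .c, .b, .d, .e, .f, .d, .h, .i, .d, .c, .b, .d, .e, .f, .d, .h, .i, .d, .c, .b, .d, .e, .f, .d, .h, .i, .d, .c, .b, .d, .e, .f, .d, .h, .i, .d, .c, .b, .d, .e, .f, .d, .h, .i, .d, .c, .b, .d, .e, .f, .d, .h, .i, .d, .c, .b, .d, .e,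 .f, .d, .h, .i, .d, .c, .b]))) (nd 106 (nd 105 (lf [.c, .d, .e, .f, .h, .a, .b, .c, .d, .e, .f, .h, .a, .b, .c, .d, .e, .f, .h, .a, .b, .c, .d, .e, .f, .h, .a, .b, .c, .d, .e, .f, .h, .a, .b, .c, .d, .e, .f, .h, .a, .b, .c, .d, .e, .f, .h, .a, .b, .c, .d, .e, .f, .h, .a, .b, .c, .d, .e, .f, .h, .a, .b]) (lf [.e, .f, .d, .h, .i, .d, .c, .b, .d, .e, .f, .d, .h, .i, .d, .c, .b, .d, .e, .f, .d, .h, .i, .d, .c, .b, .d, .e, .f, .d, .h, .i, .d, .c, .b, .d, .e, .f, .d, .h, .i, .d, .c, .b, .d, .e, .f, .d, .h, .i, .d, .c, .b, .d, .e, .f, .d, .h, .i, .d, .c, .b, .d, .e, .f, .d, .h, .i, .d, .c, .b, .d, .e, .f, .d, .h, .i, .d, .c, .b, .d, .e, .f, .d, .h, .i, .d, .c, .b, .d])) (nd 107 (lf [.c, .b, .a, .h, .f, .e, .d, .c, .b, .a, .h, .f, .e, .d, .c, .b, .a, .h, .f, .e, .d, .c, .b, .a, .h, .f, .e, .d, .c, .b, .a, .h, .f, .e, .d, .c, .b, .a, .h,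 .f, .e, .d, .c, .b, .a, .h, .f, .e, .d, .c, .b, .a, .h, .f, .e, .d, .c, .b, .a, .h, .f, .e, .d]) (lf [.a, .b, .c, .d, .e, .f, .h, .a, .b, .c, .d, .e, .f, .h, .a, .b, .c, .d, .e, .f, .h, .a, .b, .c, .d, .e, .f, .h, .a, .b, .c, .d, .e, .f, .h, .a, .b, .c, .d, .e, .f, .h, .a, .b, .c, .d, .e, .f, .h, .a, .b, .c, .d, .e, .f, .h, .a, .b, .c, .d, .e, .f, .h]))))) (nd 115 (nd 111 (nd 109 (lf [.d, .e, .f, .h, .a, .b, .c, .d, .e, .f, .h, .a, .b, .c, .d, .e, .f, .h, .a, .b, .c, .d, .e, .f, .h, .a, .b, .c, .d, .e, .f, .h, .a, .b, .c, .d, .e, .f, .h, .a, .b, .c, .d, .e, .f, .h, .a, .b, .c, .d, .e, .f, .h, .a, .b, .c, .d, .e, .f, .h, .a, .b, .c]) (nd 110 (lf [.d, .c, .b, .d, .e, .f, .d, .h, .i, .d, .c, .b, .d, .e, .f, .d, .h, .i, .d, .c, .b, .d, .e, .f, .d, .h, .i, .d, .c, .b, .d, .e, .f, .d, .h, .i, .d, .c, .b, .d, .e, .f, .d, .h, .i, .d, .c,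 .b, .d, .e, .f, .d, .h, .i, .d, .c, .b, .d, .e, .f, .d, .h, .i, .d, .c, .b, .d, .e, .f, .d, .h, .i, .d, .c, .b, .d, .e, .f, .d, .h, .i, .d, .c, .b, .d, .e, .f, .d, .h, .i]) (lf [.d, .b, .c, .d, .i, .h, .d, .f, .e, .d, .b, .c, .d, .i, .h, .d, .f, .e, .d, .b, .c, .d, .i, .h, .d, .f, .e, .d, .b, .c, .d, .i, .h, .d, .f, .e, .d, .b, .c, .d, .i, .h, .d, .f, .e, .d, .b, .c, .d, .i, .h, .d, .f, .e, .d, .b, .c, .d, .i, .h, .d, .f, .e, .d, .b, .c, .d, .i, .h, .d, .f, .e, .d, .b, .c, .d, .i, .h, .d, .f, .e, .d, .b, .c, .d, .i, .h, .d, .f, .e]))) (nd 113 (nd 112 (lf [.e, .f, .h, .a, .b, .c, .d, .e, .f, .h, .a, .b, .c, .d, .e, .f, .h, .a, .b, .c, .d, .e, .f, .h, .a, .b, .c, .d, .e, .f, .h, .a, .b, .c, .d, .e, .f, .h, .a, .b, .c, .d, .e, .f, .h, .a, .b, .c, .d, .e, .f, .h, .a, .b, .c, .d, .e, .f, .h, .a, .b, .c, .d]) (lf [.d, .c, .b, .a, .h, .f,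 .e, .d, .c, .b, .a, .h, .f, .e, .d, .c, .b, .a, .h, .f, .e, .d, .c, .b, .a, .h, .f, .e, .d, .c, .b, .a, .h, .f, .e, .d, .c, .b, .a, .h, .f, .e, .d, .c, .b, .a, .h, .f, .e, .d, .c, .b, .a, .h, .f, .e, .d, .c, .b, .a, .h, .f, .e])) (nd 114 (lf [.f, .d, .h, .i, .d, .c, .b, .d, .e, .f, .d, .h, .i, .d, .c, .b, .d, .e, .f, .d, .h, .i, .d, .c, .b, .d, .e, .f, .d, .h, .i, .d, .c, .b, .d, .e, .f, .d, .h, .i, .d, .c, .b, .d, .e, .f, .d, .h, .i, .d, .c, .b, .d, .e, .f, .d, .h, .i, .d, .c, .b, .d, .e, .f, .d, .h, .i, .d, .c, .b, .d, .e, .f, .d, .h, .i, .d, .c, .b, .d, .e, .f, .d, .h, .i, .d, .c, .b, .d, .e]) (lf [.a, .h, .f, .e, .d, .c, .b, .a, .h, .f, .e, .d, .c, .b, .a, .h, .f, .e, .d, .c, .b, .a, .h, .f, .e, .d, .c, .b, .a, .h, .f, .e, .d, .c, .b, .a, .h, .f, .e, .d, .c, .b, .a, .h, .f, .e, .d, .c, .b, .a, .h, .f, .e, .d, .c, .b, .a, .h,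 .f, .e, .d, .c, .b])))) (nd 119 (nd 117 (nd 116 (lf [.d, .f, .e, .d, .b, .c, .d, .i, .h, .d, .f, .e, .d, .b, .c, .d, .i, .h, .d, .f, .e, .d, .b, .c, .d, .i, .h, .d, .f, .e, .d, .b, .c, .d, .i, .h, .d, .f, .e, .d, .b, .c, .d, .i, .h, .d, .f, .e, .d, .b, .c, .d, .i, .h, .d, .f, .e, .d, .b, .c, .d, .i, .h, .d, .f, .e, .d, .b, .c, .d, .i, .h, .d, .f, .e, .d, .b, .c, .d, .i, .h, .d, .f, .e, .d, .b, .c, .d, .i, .h]) (lf [.h, .d, .f, .e, .d, .b, .c, .d, .i, .h, .d, .f, .e, .d, .b, .c, .d, .i, .h, .d, .f, .e, .d, .b, .c, .d, .i, .h, .d, .f, .e, .d, .b, .c, .d, .i, .h, .d, .f, .e, .d, .b, .c, .d, .i, .h, .d, .f, .e, .d, .b, .c, .d, .i, .h, .d, .f, .e, .d, .b, .c, .d, .i, .h, .d, .f, .e, .d, .b, .c, .d, .i, .h, .d, .f, .e, .d, .b, .c, .d, .i, .h, .d, .f, .e, .d, .b, .c, .d, .i])) (nd 118 (lf [.b, .a, .h, .f, .e, .d, .c, .b, .a, .h, .f, .e,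 .d, .c, .b, .a, .h, .f, .e, .d, .c, .b, .a, .h, .f, .e, .d, .c, .b, .a, .h, .f, .e, .d, .c, .b, .a, .h, .f, .e, .d, .c, .b, .a, .h, .f, .e, .d, .c, .b, .a, .h, .f, .e, .d, .c, .b, .a, .h, .f, .e, .d, .c]) (lf [.c, .b, .d, .e, .f, .d, .h, .i, .d, .c, .b, .d, .e, .f, .d, .h, .i, .d, .c, .b, .d, .e, .f, .d, .h, .i, .d, .c, .b, .d, .e, .f, .d, .h, .i, .d, .c, .b, .d, .e, .f, .d, .h, .i, .d, .c, .b, .d, .e, .f, .d, .h, .i, .d, .c, .b, .d, .e, .f, .d, .h, .i, .d, .c, .b, .d, .e, .f, .d, .h, .i, .d, .c, .b, .d, .e, .f, .d, .h, .i, .d, .c, .b, .d, .e, .f, .d, .h, .i, .d]))) (nd 121 (nd 120 (lf [.f, .h, .a, .b, .c, .d, .e, .f, .h, .a, .b, .c, .d, .e, .f, .h, .a, .b, .c, .d, .e, .f, .h, .a, .b, .c, .d, .e, .f, .h, .a, .b, .c, .d, .e, .f, .h, .a, .b, .c, .d, .e, .f, .h, .a, .b, .c, .d, .e, .f, .h, .a, .b, .c, .d, .e, .f, .h, .a, .b, .c, .d,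 .e]) (lf [.f, .e, .d, .b, .c, .d, .i, .h, .d, .f, .e, .d, .b, .c, .d, .i, .h, .d, .f, .e, .d, .b, .c, .d, .i, .h, .d, .f, .e, .d, .b, .c, .d, .i, .h, .d, .f, .e, .d, .b, .c, .d, .i, .h, .d, .f, .e, .d, .b, .c, .d, .i, .h, .d, .f, .e, .d, .b, .c, .d, .i, .h, .d, .f, .e, .d, .b, .c, .d, .i, .h, .d, .f, .e, .d, .b, .c, .d, .i, .h, .d, .f, .e, .d, .b, .c, .d, .i, .h, .d])) (nd 122 (lf [.h, .i, .d, .c, .b, .d, .e, .f, .d, .h, .i, .d, .c, .b, .d, .e, .f, .d, .h, .i, .d, .c, .b, .d, .e, .f, .d, .h, .i, .d, .c, .b, .d, .e, .f, .d, .h, .i, .d, .c, .b, .d, .e, .f, .d, .h, .i, .d, .c, .b, .d, .e, .f, .d, .h, .i, .d, .c, .b, .d, .e, .f, .d, .h, .i, .d, .c, .b, .d, .e, .f, .d, .h, .i, .d, .c, .b, .d, .e, .f, .d, .h, .i, .d, .c, .b, .d, .e, .f, .d]) (lf [.i, .d, .c, .b, .d, .e, .f, .d, .h, .i, .d, .c, .b, .d, .e, .f, .d, .h, .i, .d, .c, .b, .d,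 .e, .f, .d, .h, .i, .d, .c, .b, .d, .e, .f, .d, .h, .i, .d, .c, .b, .d, .e, .f, .d, .h, .i, .d, .c, .b, .d, .e, .f, .d, .h, .i, .d, .c, .b, .d, .e, .f, .d, .h, .i, .d, .c, .b, .d, .e, .f, .d, .h, .i, .d, .c, .b, .d, .e, .f, .d, .h, .i, .d, .c, .b, .d, .e, .f, .d, .h])))))))
noncomputable def t1689_circT : ℕ → List Cfsg.Spor.Fi23.Gen := (nd 64 t1689_circT_c0 t1689_circT_c1)
def t1689_ccert : List (ℕ × ℕ × Bool) := [(7, 0, false), (17, 0, false), (27, 0, false), (37, 0, false), (47, 0, false), (57, 0, false), (78, 1, false), (79, 1, false), (6, 0, false), (16, 0, false), (26, 0, false), (36, 0, false), (46, 0, false), (67, 1, false), (68, 1, false), (69, 1, false), (5, 0, false), (15, 0, false), (25, 0, false), (35, 0, false), (56, 1, false), (57, 1, false), (58, 1, false), (59, 1, false), (4, 0, false), (14, 0, false), (24, 0, false),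 (45, 1, false), (46, 1, false), (47, 1, false), (48, 1, false), (49, 1, false), (3, 0, false), (13, 0, false), (34, 1, false), (35, 1, false), (36, 1, false), (37, 1, false), (39, 1, false), (2, 0, false), (23, 1, false), (24, 1, false), (25, 1, false), (26, 1, false), (27, 1, false), (29, 1, false), (8, 0, false), (18, 0, false), (38, 0, false), (48, 0, false), (58, 0, false), (68, 0, false), (78, 0, false), (12, 1, false), (13, 1, false), (14, 1, false), (15, 1, false), (16, 1, false), (17, 1, false), (19, 1, false), (28, 0, false), (22, 0, false), (9, 0, false), (19, 0, false), (39, 0, false), (49, 0, false), (59, 0, false), (69, 0, false), (79, 0, false), (89, 0, false), (1, 1, false), (2, 1, false), (3, 1, false), (4, 1, false), (5, 1, false), (6, 1, false), (7, 1, false), (9, 1, false), (11, 0, false), (23, 0, false), (38,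 1, false), (29, 0, false), (0, 0, false), (34, 0, false), (33, 0, false), (12, 0, false), (28, 1, false), (45, 0, false), (44, 0, false), (89, 1, false), (56, 0, false), (55, 0, false), (1, 0, false), (18, 1, false), (67, 0, false), (66, 0, false), (77, 0, false), (99, 0, false), (88, 0, false), (8, 1, false), (101, 6, false), (100, 4, true), (100, 2, false), (100, 3, false), (101, 2, false), (100, 4, false), (101, 4, true), (101, 0, false), (101, 3, false), (100, 0, false), (100, 5, true), (101, 4, false), (101, 3, true), (100, 5, false), (101, 6, true), (100, 2, true), (100, 1, true), (101, 5, true), (100, 1, false), (101, 5, false), (100, 3, true), (100, 7, false), (100, 8, false)]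
noncomputable def t1689_hc1T_c0 : ℕ → List Cfsg.Spor.Fi23.Gen := (nd 4 (nd 2 (nd 1 (lf [.a]) (lf [.b])) (nd 3 (lf [.c]) (lf [.d]))) (nd 6 (nd 5 (lf [.e]) (lf [.f])) (nd 7 (lf [.g]) (nd 8 (lf [.h]) (lf [.i])))))
noncomputable def t1689_hc1T : ℕ → List Cfsg.Spor.Fi23.Gen := t1689_hc1T_c0
noncomputable def t1689_hc2T_c0 : ℕ → List Cfsg.Spor.Fi23.Gen := (nd 4 (nd 2 (nd 1 (lf []) (lf [])) (nd 3 (lf []) (lf []))) (nd 6 (nd 5 (lf []) (lf [])) (nd 7 (lf []) (nd 8 (lf []) (lf [])))))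
noncomputable def t1689_hc2T : ℕ → List Cfsg.Spor.Fi23.Gen := t1689_hc2T_c0

noncomputable def t1689_rd : RData Cfsg.Spor.Fi23.Gen := ⟨wrapRow 41693 t1689_rrowT, 41693, 31671, fi23_gi, fi23_gof, fi23_gens, circTab 123 t1689_circT, circTab 9 t1689_hc1T, circTab 9 t1689_hc2T, 4⟩
noncomputable def t1689_rf (p : ℕ) : Bool := t1689_rd.chk p
def t1689_rsw : List (List Cfsg.Spor.Fi23.Gen) := [[.a], [.b], [.c], [.d], [.e], [.f], [.g], [.h], [.i]]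

end Cfsg.Agent.H35
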